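import Groth.Agent.S12529
import Groth.Agent.RedNorm.Delta
import Groth.Agent.OneDim.Basic
import Groth.Agent.CycLib.FlatLength
import Mathlib.RingTheory.Nilpotent.GeometricallyReduced
import Mathlib.RingTheory.LocalProperties.Reduced
import Mathlib.RingTheory.DiscreteValuationRing.TFAE

/-!
# The δ-invariant along flat local maps with geometrically reduced closed fibre

If `A → B` is flat local, `m_A B = m_B` and `κ(B)/κ(A)` is geometrically reduced, `A` reduced of
dimension one with finite normalization `N`, then `B ⊗ N` is the normalization of `B` and `δ(B) = δ(A)`.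
-/

set_option autoImplicit false
set_option linter.style.haveILetI false
set_option linter.unusedSectionVars false
set_option maxHeartbeats 800000

universe u

open scoped TensorProduct
open IsLocalRing

namespace Groth.Agent.DeltaFlat

variable {A B : Type u} [CommRing A] [CommRing B] [Algebra A B]

/-- The normalization. -/
abbrev Nrm (A : Type u) [CommRing A] : Type u := ↥(integralClosure A (FractionRing A))

theorem map_mem_nonZeroDivisors [Module.Flat A B] {a : A} (ha : a ∈ nonZeroDivisors A) :
    algebraMap A B a ∈ nonZeroDivisors B := by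
  have h : Function.Injective (LinearMap.lTensor B (LinearMap.mulLeft A a)) :=
    Module.Flat.lTensor_preserves_injective_linearMap _ (fun x y hxy =>
      sub_eq_zero.mp ((mem_nonZeroDivisors_iff.mp ha).1 (x - y) (by
        rw [mul_sub, sub_eq_zero]; exact hxy)))
  have h0 : ∀ x : B, algebraMap A B a * x = 0 → x = 0 := fun x hx => by
    have h1 : LinearMap.lTensor B (LinearMap.mulLeft A a) (x ⊗ₜ[A] 1) = 0 := by
      rw [LinearMap.lTensor_tmul, LinearMap.mulLeft_apply, mul_one,
        show a = a • (1 : A) by simp, TensorProduct.tmul_smul, TensorProduct.smul_tmul',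
        Algebra.smul_def, hx, TensorProduct.zero_tmul]
    have h2 : x ⊗ₜ[A] (1 : A) = 0 := h (by rw [h1, map_zero])
    simpa using congrArg (TensorProduct.rid A B) h2
  exact mem_nonZeroDivisors_iff.mpr ⟨h0, fun x hx => h0 x (by rwa [mul_comm] at hx)⟩

theorem nrm_nzd [Module.Flat A B] {a : A} (ha : a ∈ nonZeroDivisors A) {x : B ⊗[A] Nrm A}
    (hx : (1 : B) ⊗ₜ[A] algebraMap A (Nrm A) a * x = 0) : x = 0 := by
  let μ : Nrm A →ₗ[A] Nrm A := LinearMap.mulLeft A (algebraMap A _ a)
  have hμ : Function.Injective μ := fun p q h => Subtype.ext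
    ((IsLocalization.map_units (FractionRing A) (⟨a, ha⟩ : nonZeroDivisors A)).mul_left_cancel
      (congrArg Subtype.val h))
  apply Module.Flat.lTensor_preserves_injective_linearMap (M := B) μ hμ
  rw [map_zero, ← hx]
  clear hx
  induction x using TensorProduct.induction_on with
  | zero => simp
  | tmul r b =>
    show r ⊗ₜ[A] (algebraMap A (Nrm A) a * b) = ((1 : B) ⊗ₜ[A] algebraMap A (Nrm A) a) * (r ⊗ₜ[A] b)
    rw [Algebra.TensorProduct.tmul_mul_tmul, one_mul]
  | add p q hp hq => rw [map_add, mul_add, hp, hq]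

theorem exists_lift {N T : Type u} [CommRing N] [Algebra A N] [CommRing T] (gB : B →+* T) (gN : N →+* T)
    (h : gB.comp (algebraMap A B) = gN.comp (algebraMap A N)) :
    ∃ Φ : B ⊗[A] N →+* T, (∀ b, Φ (b ⊗ₜ 1) = gB b) ∧ ∀ n, Φ (1 ⊗ₜ n) = gN n := by
  letI := (gB.comp (algebraMap A B)).toAlgebra
  let f : B →ₐ[A] T := ⟨gB, fun a => rfl⟩
  let g : N →ₐ[A] T := ⟨gN, fun a => (RingHom.congr_fun h a).symm⟩
  refine ⟨(Algebra.TensorProduct.lift f g fun _ _ => Commute.all _ _).toRingHom, fun b => ?_, fun n => ?_⟩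
  · show Algebra.TensorProduct.lift f g _ (b ⊗ₜ 1) = _
    rw [Algebra.TensorProduct.lift_tmul, map_one, mul_one]; rfl
  · show Algebra.TensorProduct.lift f g _ (1 ⊗ₜ n) = _
    rw [Algebra.TensorProduct.lift_tmul, map_one, one_mul]; rfl

/-- In a reduced ring, an element of a minimal prime is killed outside of it. -/
theorem exists_mul_eq_zero {R : Type u} [CommRing R] [IsReduced R] {P : Ideal R} [P.IsPrime]
    (hP : P ∈ minimalPrimes R) {y : R} (hy : y ∈ P) : ∃ w, w ∉ P ∧ w * y = 0 := by
  obtain ⟨k, hk⟩ := OneDim.isNilpotent_algebraMap_atPrime hP hy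
  rw [← map_pow, IsLocalization.map_eq_zero_iff P.primeCompl] at hk
  obtain ⟨⟨w, hw⟩, hwk⟩ := hk
  refine ⟨w, hw, IsReduced.eq_zero _ ⟨k + 1, ?_⟩⟩
  simp only at hwk
  rw [show (w * y) ^ (k + 1) = w ^ k * y * (w * y ^ k) by ring, hwk, mul_zero]

section Local

variable [IsLocalRing A] [IsLocalRing B] [IsLocalHom (algebraMap A B)]

/-- The fibre over a maximal ideal of the normalization is reduced. -/
theorem mem_map_of_pow_mem {N : Type u} [CommRing N] [Algebra A N] [Algebra.IsIntegral A N]
    (hm : (maximalIdeal A).map (algebraMap A B) = maximalIdeal B)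
    [Algebra.IsGeometricallyReduced (ResidueField A) (ResidueField B)]
    (M' : Ideal N) [M'.IsMaximal] {y : B ⊗[A] N} {k : ℕ}
    (hy : y ^ k ∈ M'.map (Algebra.TensorProduct.includeRight : N →ₐ[A] B ⊗[A] N)) :
    y ∈ M'.map (Algebra.TensorProduct.includeRight : N →ₐ[A] B ⊗[A] N) := by
  set J := M'.map (Algebra.TensorProduct.includeRight : N →ₐ[A] B ⊗[A] N)
  have hAM : maximalIdeal A ≤ M'.comap (algebraMap A N) :=
    (IsLocalRing.eq_maximalIdeal (Ideal.isMaximal_comap_of_isIntegral_of_isMaximal M')).ge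
  letI := Ideal.Quotient.field M'
  letI : Algebra (ResidueField A) (N ⧸ M') :=
    (Ideal.quotientMap M' (algebraMap A N) hAM).toAlgebra
  haveI : Algebra.IsAlgebraic (ResidueField A) (N ⧸ M') := by
    haveI : Algebra.IsIntegral (ResidueField A) (N ⧸ M') := ⟨fun x => by
      obtain ⟨x, rfl⟩ := Ideal.Quotient.mk_surjective x
      exact (Algebra.IsIntegral.isIntegral (R := A) x).map_of_comp_eq
        (IsLocalRing.residue A) (Ideal.Quotient.mk M') rfl⟩
    exact Algebra.IsIntegral.isAlgebraic
  let T := (N ⧸ M') ⊗[ResidueField A] ResidueField B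
  haveI : IsReduced T := inferInstance
  obtain ⟨Φ, hΦB, hΦN⟩ := exists_lift (A := A)
    (((Algebra.TensorProduct.includeRight :
        ResidueField B →ₐ[ResidueField A] T).toRingHom).comp (IsLocalRing.residue B))
    ((Algebra.TensorProduct.includeLeftRingHom : (N ⧸ M') →+* T).comp (Ideal.Quotient.mk M')) (by
      ext a
      show (1 : N ⧸ M') ⊗ₜ[ResidueField A] algebraMap (ResidueField A) (ResidueField B) (residue A a) =
        algebraMap (ResidueField A) (N ⧸ M') (residue A a) ⊗ₜ[ResidueField A] 1
      rw [Algebra.algebraMap_eq_smul_one, Algebra.algebraMap_eq_smul_one, TensorProduct.smul_tmul])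
  let D := (B ⊗[A] N) ⧸ J
  let fL : (N ⧸ M') →+* D := Ideal.Quotient.lift M'
    ((Ideal.Quotient.mk J).comp (Algebra.TensorProduct.includeRight : N →ₐ[A] B ⊗[A] N).toRingHom)
    fun x hx => Ideal.Quotient.eq_zero_iff_mem.mpr (Ideal.mem_map_of_mem _ hx)
  let fB : ResidueField B →+* D := Ideal.Quotient.lift (maximalIdeal B)
    ((Ideal.Quotient.mk J).comp (algebraMap B (B ⊗[A] N))) (by
      intro b hb
      rw [← hm] at hb
      have hle : (maximalIdeal A).map (algebraMap A B) ≤ J.comap (algebraMap B (B ⊗[A] N)) := by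
        rw [Ideal.map_le_iff_le_comap]
        intro a ha
        rw [Ideal.mem_comap, Ideal.mem_comap, ← IsScalarTower.algebraMap_apply A B (B ⊗[A] N),
          ← (Algebra.TensorProduct.includeRight : N →ₐ[A] B ⊗[A] N).commutes a]
        exact Ideal.mem_map_of_mem _ (hAM ha)
      exact Ideal.Quotient.eq_zero_iff_mem.mpr (hle hb))
  have hc : fB.comp (algebraMap (ResidueField A) (ResidueField B)) =
      fL.comp (algebraMap (ResidueField A) (N ⧸ M')) := by
    refine Ideal.Quotient.ringHom_ext (RingHom.ext fun a => ?_)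
    show Ideal.Quotient.mk J (algebraMap B (B ⊗[A] N) (algebraMap A B a)) =
      Ideal.Quotient.mk J ((Algebra.TensorProduct.includeRight : N →ₐ[A] B ⊗[A] N) (algebraMap A N a))
    rw [AlgHom.commutes, ← IsScalarTower.algebraMap_apply]
  letI : Algebra (ResidueField A) D := (fL.comp (algebraMap (ResidueField A) (N ⧸ M'))).toAlgebra
  let aL : (N ⧸ M') →ₐ[ResidueField A] D := ⟨fL, fun _ => rfl⟩
  let aB : ResidueField B →ₐ[ResidueField A] D := ⟨fB, fun c => RingHom.congr_fun hc c⟩
  let Ψ : T →ₐ[ResidueField A] D := Algebra.TensorProduct.lift aL aB fun _ _ => Commute.all _ _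
  have hΨΦ : ∀ x, Ψ (Φ x) = Ideal.Quotient.mk J x := by
    intro x
    induction x using TensorProduct.induction_on with
    | zero => simp
    | tmul b n =>
      have e : b ⊗ₜ[A] n = (b ⊗ₜ[A] (1 : N)) * ((1 : B) ⊗ₜ[A] n) := by
        rw [Algebra.TensorProduct.tmul_mul_tmul, mul_one, one_mul]
      rw [e, map_mul, map_mul, map_mul, hΦB, hΦN]
      congr 1
      · show Ψ ((1 : N ⧸ M') ⊗ₜ[ResidueField A] residue B b) = _
        rw [Algebra.TensorProduct.lift_tmul, map_one, one_mul]
        rfl
      · show Ψ (Ideal.Quotient.mk M' n ⊗ₜ[ResidueField A] (1 : ResidueField B)) = _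
        rw [Algebra.TensorProduct.lift_tmul, map_one, mul_one]
        rfl
    | add p q hp hq => rw [map_add, map_add, map_add, hp, hq]
  have hJker : ∀ x ∈ J, Φ x = 0 := fun x hx => by
    refine (Ideal.map_le_iff_le_comap.mpr fun n hn => ?_ : J ≤ RingHom.ker Φ) hx
    rw [Ideal.mem_comap, RingHom.mem_ker]
    show Φ ((1 : B) ⊗ₜ[A] n) = 0
    rw [hΦN, RingHom.comp_apply, Ideal.Quotient.eq_zero_iff_mem.mpr hn, map_zero]
  have h0 : Φ y = 0 := IsReduced.eq_zero _ ⟨k, by rw [← map_pow]; exact hJker _ hy⟩
  exact Ideal.Quotient.eq_zero_iff_mem.mp (by rw [← hΨΦ, h0, map_zero])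

variable [IsNoetherianRing A] [IsNoetherianRing B] [IsReduced A] [Module.Flat A B]

/-- The local rings of `B ⊗ N` are normal domains. -/
theorem localization_normal (hdim : ringKrullDim A = 1) [Module.Finite A (Nrm A)]
    (hm : (maximalIdeal A).map (algebraMap A B) = maximalIdeal B)
    (hfib : ∀ (M' : Ideal (Nrm A)) [M'.IsMaximal] (y : B ⊗[A] Nrm A) (k : ℕ),
      y ^ k ∈ M'.map (Algebra.TensorProduct.includeRight : Nrm A →ₐ[A] B ⊗[A] Nrm A) →
        y ∈ M'.map (Algebra.TensorProduct.includeRight : Nrm A →ₐ[A] B ⊗[A] Nrm A))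
    (n : Ideal (B ⊗[A] Nrm A)) [n.IsMaximal] :
    IsDomain (Localization.AtPrime n) ∧ IsIntegrallyClosed (Localization.AtPrime n) := by
  let C := B ⊗[A] Nrm A
  let ι : Nrm A →ₐ[A] C := Algebra.TensorProduct.includeRight
  haveI : IsNoetherianRing C := Algebra.FiniteType.isNoetherianRing B C
  obtain ⟨t, ht, ht'⟩ := S12529.exists_nzd_mem A hdim
  haveI hcM : (n.comap ι).IsPrime := Ideal.comap_isPrime _ _
  have hnB : n.comap (algebraMap B C) = maximalIdeal B :=
    IsLocalRing.eq_maximalIdeal (Ideal.isMaximal_comap_of_isIntegral_of_isMaximal n)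
  have hnA : (n.comap ι).comap (algebraMap A (Nrm A)) = maximalIdeal A := by
    refine ((maximalIdeal.isMaximal A).eq_of_le (Ideal.IsPrime.ne_top inferInstance) fun a ha => ?_).symm
    rw [Ideal.mem_comap, Ideal.mem_comap, AlgHom.commutes, IsScalarTower.algebraMap_apply A B C,
      ← Ideal.mem_comap, hnB, ← hm]
    exact Ideal.mem_map_of_mem _ ha
  haveI hM' : (n.comap ι).IsMaximal :=
    Ideal.isMaximal_of_isIntegral_of_isMaximal_comap _ (by rw [hnA]; infer_instance)
  set M' := n.comap ι
  set J := M'.map ι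
  have hJn : J ≤ n := Ideal.map_comap_le
  obtain ⟨z, hz, v, hv, x, hzx, hw⟩ := S12529.exists_local_generator ht ht' hdim M'
  -- the fibre is reduced Artinian
  haveI : IsReduced (C ⧸ J) := ⟨fun y ⟨k, hk⟩ => by
    obtain ⟨y, rfl⟩ := Ideal.Quotient.mk_surjective y
    rw [← map_pow, Ideal.Quotient.eq_zero_iff_mem] at hk
    rw [Ideal.Quotient.eq_zero_iff_mem]
    exact hfib M' y k hk⟩
  have hmaxle : ∀ P : Ideal (C ⧸ J), P.IsPrime → P.IsMaximal := by
    intro P hP
    haveI : (P.comap (Ideal.Quotient.mk J)).IsPrime := Ideal.comap_isPrime _ _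
    have h1 : maximalIdeal B ≤ (P.comap (Ideal.Quotient.mk J)).comap (algebraMap B C) := by
      rw [← hm, Ideal.map_le_iff_le_comap]
      intro a ha
      rw [Ideal.mem_comap, Ideal.mem_comap, ← IsScalarTower.algebraMap_apply A B C, ← ι.commutes a]
      have h2 : ι (algebraMap A (Nrm A) a) ∈ J := Ideal.mem_map_of_mem _
        (by rw [← Ideal.mem_comap, hnA]; exact ha)
      rw [Ideal.mem_comap, Ideal.Quotient.eq_zero_iff_mem.mpr h2]
      exact P.zero_mem
    have h3 := (maximalIdeal.isMaximal B).eq_of_le (Ideal.IsPrime.ne_top inferInstance) h1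
    haveI : (P.comap (Ideal.Quotient.mk J)).IsMaximal :=
      Ideal.isMaximal_of_isIntegral_of_isMaximal_comap (R := B) _ (h3 ▸ inferInstance)
    rw [← Ideal.map_comap_of_surjective _ Ideal.Quotient.mk_surjective P]
    refine Ideal.IsMaximal.map_of_surjective_of_ker_le Ideal.Quotient.mk_surjective fun j hj => ?_
    rw [Ideal.mem_comap, RingHom.mem_ker.mp hj]
    exact P.zero_mem
  have hloc : ∀ y ∈ n, ∃ w ∉ n, w * y ∈ J := by
    intro y hy
    haveI hP : (n.map (Ideal.Quotient.mk J)).IsPrime :=
      Ideal.map_isPrime_of_surjective Ideal.Quotient.mk_surjective (by rw [Ideal.mk_ker]; exact hJn)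
    have hmin : n.map (Ideal.Quotient.mk J) ∈ minimalPrimes (C ⧸ J) :=
      ⟨⟨hP, bot_le⟩, fun Q hQ hle => ((hmaxle Q hQ.1).eq_of_le hP.ne_top hle).ge⟩
    obtain ⟨w, hw', hwy⟩ := exists_mul_eq_zero hmin (Ideal.mem_map_of_mem (Ideal.Quotient.mk J) hy)
    obtain ⟨w, rfl⟩ := Ideal.Quotient.mk_surjective w
    refine ⟨w, fun h => hw' (Ideal.mem_map_of_mem _ h), ?_⟩
    rw [← Ideal.Quotient.eq_zero_iff_mem, map_mul]
    exact hwy
  let L := Localization.AtPrime n
  haveI : IsNoetherianRing L := IsLocalization.isNoetherianRing n.primeCompl L inferInstance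
  set π := algebraMap C L (ι z)
  have hgen : maximalIdeal L ≤ Ideal.span {π} := by
    rw [← Localization.AtPrime.map_eq_maximalIdeal, Ideal.map_le_iff_le_comap]
    intro y hy
    obtain ⟨w, hwn, hwy⟩ := hloc y hy
    have hJ : J ≤ (Ideal.span {π}).comap (algebraMap C L) := by
      rw [Ideal.map_le_iff_le_comap]
      intro a ha
      obtain ⟨b, hb⟩ := hw a ha
      have hu : IsUnit (algebraMap C L (ι v)) :=
        IsLocalization.map_units L (⟨ι v, fun h => hv h⟩ : n.primeCompl)
      rw [Ideal.mem_comap, Ideal.mem_comap, ← Ideal.mul_unit_mem_iff_mem _ hu, ← map_mul, ← map_mul, hb,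
        map_mul, map_mul]
      exact Ideal.mul_mem_right _ _ (Ideal.mem_span_singleton_self _)
    have := hJ hwy
    rw [Ideal.mem_comap, map_mul,
      Ideal.unit_mul_mem_iff_mem _ (IsLocalization.map_units L (⟨w, hwn⟩ : n.primeCompl))] at this
    exact this
  have hπm : π ∈ maximalIdeal L := by
    rw [← Localization.AtPrime.map_eq_maximalIdeal]
    exact Ideal.mem_map_of_mem _ hz
  have htC : ι (algebraMap A (Nrm A) t) ∈ nonZeroDivisors C :=
    mem_nonZeroDivisors_iff.mpr ⟨fun y hy => nrm_nzd ht' hy,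
      fun y hy => nrm_nzd ht' (by rwa [mul_comm] at hy)⟩
  have hreg : ∀ y, π * y = 0 → y = 0 := by
    intro y hy
    have h1 : algebraMap C L (ι (algebraMap A (Nrm A) t)) * (algebraMap C L (ι v) * y) = 0 := by
      rw [← mul_assoc, ← map_mul, ← map_mul, ← hzx, map_mul, map_mul, mul_right_comm, hy, zero_mul]
    have h2 := (mem_nonZeroDivisors_iff.mp
      (IsLocalization.map_nonZeroDivisors_le n.primeCompl L
        (Submonoid.mem_map_of_mem _ htC))).1 _ h1
    exact ((IsLocalization.map_units L (⟨ι v, fun h => hv h⟩ : n.primeCompl)).mul_right_eq_zero).mp h2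
  haveI : IsDomain L := S12529.isDomain_of_span_nzd L π hgen hπm hreg
  refine ⟨inferInstance, ?_⟩
  have hπ0 : π ≠ 0 := fun h => one_ne_zero (hreg 1 (by rw [h, zero_mul]))
  have hnf : ¬ IsField L := fun h => hπ0 (by
    rw [isField_iff_maximalIdeal_eq.mp h] at hπm; exact hπm)
  have hprinc : (maximalIdeal L).IsPrincipal :=
    ⟨⟨π, le_antisymm hgen ((Ideal.span_singleton_le_iff_mem _).mpr hπm)⟩⟩
  haveI : IsDiscreteValuationRing L :=
    ((IsDiscreteValuationRing.TFAE L hnf).out 4 0).mp hprinc
  infer_instance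

/-- δ is preserved by flat local maps with `m_A B = m_B` and reduced fibres on the normalization. -/
theorem deltaInv_eq_of_fibre (hdim : ringKrullDim A = 1) [Module.Finite A (Nrm A)]
    (hm : (maximalIdeal A).map (algebraMap A B) = maximalIdeal B)
    (hfib : ∀ (M' : Ideal (Nrm A)) [M'.IsMaximal] (y : B ⊗[A] Nrm A) (k : ℕ),
      y ^ k ∈ M'.map (Algebra.TensorProduct.includeRight : Nrm A →ₐ[A] B ⊗[A] Nrm A) →
        y ∈ M'.map (Algebra.TensorProduct.includeRight : Nrm A →ₐ[A] B ⊗[A] Nrm A)) :
    Curv2.deltaInv B = Curv2.deltaInv A := by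
  let C := B ⊗[A] Nrm A
  let ι : Nrm A →ₐ[A] C := Algebra.TensorProduct.includeRight
  let iN : A →ₗ[A] Nrm A := Algebra.linearMap A (Nrm A)
  let p : C →ₗ[B] B ⊗[A] (Nrm A ⧸ LinearMap.range iN) :=
    TensorProduct.AlgebraTensorModule.lTensor B B (LinearMap.range iN).mkQ
  have hp : Function.Surjective p := LinearMap.lTensor_surjective B (Submodule.mkQ_surjective _)
  have hker : LinearMap.ker p = LinearMap.range (Algebra.linearMap B C) := by
    have hex := lTensor_exact B (LinearMap.exact_map_mkQ_range iN) (Submodule.mkQ_surjective _)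
    have key : ∀ b : B, ∀ a : A, (iN.lTensor B) (b ⊗ₜ[A] a) = algebraMap B C (a • b) := fun b a => by
      show b ⊗ₜ[A] algebraMap A (Nrm A) a = (a • b) ⊗ₜ[A] (1 : Nrm A)
      rw [TensorProduct.smul_tmul, Algebra.algebraMap_eq_smul_one]
    ext x
    constructor
    · intro hx
      obtain ⟨y, rfl⟩ := (hex x).mp hx
      induction y using TensorProduct.induction_on with
      | zero => rw [map_zero]; exact Submodule.zero_mem _
      | tmul b a => exact ⟨a • b, (key b a).symm⟩
      | add u v hu hv =>
        rw [map_add]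
        exact Submodule.add_mem _ (hu (by exact (hex _).mpr ⟨u, rfl⟩)) (hv (by exact (hex _).mpr ⟨v, rfl⟩))
    · rintro ⟨b, rfl⟩
      exact (hex _).mpr ⟨b ⊗ₜ[A] 1, by rw [key, one_smul]; rfl⟩
  -- the map to the fractions of `B`
  let φ : FractionRing A →+* FractionRing B :=
    IsLocalization.map (M := nonZeroDivisors A) (T := nonZeroDivisors B) (FractionRing B)
      (algebraMap A B) (fun a ha => map_mem_nonZeroDivisors ha)
  obtain ⟨θ, hθB, hθN⟩ := exists_lift (A := A) (algebraMap B (FractionRing B))
    (φ.comp (integralClosure A (FractionRing A)).val.toRingHom) (RingHom.ext fun a => by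
      show algebraMap B (FractionRing B) (algebraMap A B a) = φ (algebraMap A (FractionRing A) a)
      exact (IsLocalization.map_eq _ a).symm)
  let θ' : C →ₐ[B] FractionRing B := ⟨θ, fun b => hθB b⟩
  obtain ⟨s, hs, hsN⟩ := RedNorm.exists_nonZeroDivisor_smul_mem A inferInstance
  let γ : C := ι (algebraMap A (Nrm A) s)
  have hγ : ∀ y : C, ∃ b : B, γ * y = algebraMap B C b := by
    intro y
    induction y using TensorProduct.induction_on with
    | zero => exact ⟨0, by simp⟩
    | tmul b m =>
      obtain ⟨a, ha⟩ := hsN m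
      refine ⟨a • b, ?_⟩
      show ((1 : B) ⊗ₜ[A] algebraMap A (Nrm A) s) * (b ⊗ₜ[A] m) = (a • b) ⊗ₜ[A] (1 : Nrm A)
      rw [Algebra.TensorProduct.tmul_mul_tmul, one_mul, TensorProduct.smul_tmul, ← Algebra.smul_def, ← ha,
        Algebra.linearMap_apply, Algebra.algebraMap_eq_smul_one]
    | add u v hu hv =>
      obtain ⟨b, hb⟩ := hu; obtain ⟨b', hb'⟩ := hv
      exact ⟨b + b', by rw [mul_add, hb, hb', map_add]⟩
  have hθinj : Function.Injective θ' := by
    rw [injective_iff_map_eq_zero]
    intro y hy
    obtain ⟨b, hb⟩ := hγ y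
    have hb0 : b = 0 := IsFractionRing.injective B (FractionRing B) (by
      rw [map_zero, ← θ'.commutes, ← hb, map_mul, hy, mul_zero])
    exact nrm_nzd hs (by rw [show ((1 : B) ⊗ₜ[A] algebraMap A (Nrm A) s) = γ from rfl, hb, hb0, map_zero])
  have hrange : θ'.range = integralClosure B (FractionRing B) := by
    apply le_antisymm
    · rintro _ ⟨y, rfl⟩
      exact IsIntegral.map θ' (Algebra.IsIntegral.isIntegral y)
    · intro q hq
      let I : Ideal C :=
        { carrier := {c | θ' c * q ∈ θ'.range}
          add_mem' := fun {c d} hc hd => by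
            show θ' (c + d) * q ∈ θ'.range
            rw [map_add, add_mul]; exact add_mem hc hd
          zero_mem' := by show θ' 0 * q ∈ θ'.range; rw [map_zero, zero_mul]; exact zero_mem _
          smul_mem' := fun c d hd => by
            show θ' (c * d) * q ∈ θ'.range
            rw [map_mul, mul_assoc]; exact mul_mem ⟨c, rfl⟩ hd }
      suffices hI : I = ⊤ by
        have h1 : θ' 1 * q ∈ θ'.range := (hI ▸ Submodule.mem_top : (1 : C) ∈ I)
        rwa [map_one, one_mul] at h1
      by_contra hI
      obtain ⟨n, hn, hIn⟩ := Ideal.exists_le_maximal I hI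
      obtain ⟨_, _⟩ := localization_normal hdim hm hfib n
      let L := Localization.AtPrime n
      let K := FractionRing L
      let g : B →+* K := (algebraMap L K).comp ((algebraMap C L).comp (algebraMap B C))
      have hg : ∀ b : nonZeroDivisors B, IsUnit (g b) := by
        intro b
        refine isUnit_iff_ne_zero.mpr fun h => ?_
        have h1 : algebraMap C L (algebraMap B C b) = 0 :=
          IsFractionRing.injective L K (by rw [map_zero]; exact h)
        obtain ⟨⟨w, hw⟩, hwb⟩ := (IsLocalization.map_eq_zero_iff n.primeCompl L _).mp h1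
        have h2 : θ' w * algebraMap B (FractionRing B) b = 0 := by
          rw [← θ'.commutes, ← map_mul]; simp only at hwb; rw [hwb, map_zero]
        have h3 : θ' w = 0 :=
          ((IsLocalization.map_units (FractionRing B) b).mul_left_eq_zero).mp h2
        exact hw (hθinj (h3.trans (map_zero θ').symm) ▸ n.zero_mem)
      let ψ : FractionRing B →+* K := IsLocalization.lift (M := nonZeroDivisors B) hg
      have hψθ : ∀ c, ψ (θ' c) = algebraMap L K (algebraMap C L c) := by
        intro c
        obtain ⟨b, hb⟩ := hγ c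
        have hsB : IsUnit (g (algebraMap A B s)) := hg ⟨_, map_mem_nonZeroDivisors hs⟩
        have hγ' : γ = algebraMap B C (algebraMap A B s) := by
          show ι (algebraMap A (Nrm A) s) = _
          rw [AlgHom.commutes, ← IsScalarTower.algebraMap_apply]
        refine hsB.mul_left_cancel ?_
        show g _ * _ = g _ * _
        rw [show g (algebraMap A B s) * algebraMap L K (algebraMap C L c) = g b by
            show algebraMap L K (algebraMap C L (algebraMap B C (algebraMap A B s))) * _ =
              algebraMap L K (algebraMap C L (algebraMap B C b))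
            rw [← map_mul, ← map_mul, ← hγ', hb],
          ← IsLocalization.lift_eq (M := nonZeroDivisors B) (S := FractionRing B) hg (algebraMap A B s),
          ← map_mul, ← IsLocalization.lift_eq (M := nonZeroDivisors B) (S := FractionRing B) hg b,
          ← θ'.commutes, ← map_mul, ← hγ', hb, θ'.commutes]
      have hψint : IsIntegral L (ψ q) :=
        hq.map_of_comp_eq ((algebraMap C L).comp (algebraMap B C)) ψ (RingHom.ext fun b => by
          show algebraMap L K (algebraMap C L (algebraMap B C b)) = ψ (algebraMap B (FractionRing B) b)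
          rw [IsLocalization.lift_eq]; rfl)
      obtain ⟨d, hd⟩ := IsIntegrallyClosed.isIntegral_iff.mp hψint
      obtain ⟨⟨b, ⟨e, he⟩⟩, hbe⟩ := IsLocalization.surj (nonZeroDivisors B) q
      obtain ⟨⟨c, ⟨w, hw⟩⟩, hcw⟩ := IsLocalization.surj n.primeCompl d
      have h4 : algebraMap C L (algebraMap B C b * w) = algebraMap C L (c * algebraMap B C e) := by
        refine IsFractionRing.injective L K ?_
        simp only [map_mul]
        have h5 := congrArg ψ hbe
        simp only [map_mul, ψ, IsLocalization.lift_eq] at h5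
        have h6 := congrArg (algebraMap L K) hcw
        simp only [map_mul] at h6
        change ψ q * g e = g b at h5
        rw [← hd] at h5
        show g b * _ = _ * g e
        rw [← h5, ← h6]; ring
      obtain ⟨⟨w', hw'⟩, hww⟩ := (IsLocalization.eq_iff_exists n.primeCompl L).mp h4
      have h7 : w * w' ∈ I := by
        show θ' (w * w') * q ∈ θ'.range
        refine ⟨w' * c, ?_⟩
        refine (IsLocalization.map_units (FractionRing B) (⟨e, he⟩ : nonZeroDivisors B)).mul_right_cancel ?_
        show θ' (w' * c) * algebraMap B _ e = θ' (w * w') * q * algebraMap B _ e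
        simp only at hbe hww
        rw [mul_assoc, hbe, ← θ'.commutes, ← θ'.commutes, ← map_mul, ← map_mul]
        exact congrArg θ' (by linear_combination -hww)
      exact hn.isPrime.mul_notMem hw hw' (hIn h7)
  let e : C ≃ₐ[B] integralClosure B (FractionRing B) :=
    (AlgEquiv.ofInjective θ' hθinj).trans (Subalgebra.equivOfEq _ _ hrange)
  have he : (LinearMap.range (Algebra.linearMap B C)).map e.toLinearEquiv.toLinearMap =
      LinearMap.range (Algebra.linearMap B (integralClosure B (FractionRing B))) := by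
    rw [← LinearMap.range_comp]
    congr 1
    exact LinearMap.ext fun b => e.commutes b
  unfold Curv2.deltaInv
  rw [← (Submodule.Quotient.equiv _ _ e.toLinearEquiv he).length_eq, ← hker,
    (p.quotKerEquivOfSurjective hp).length_eq, CycLib.length_tensor, hm,
    Module.length_eq_one_iff.mpr (isSimpleModule_iff_quot_maximal.mpr ⟨maximalIdeal B, inferInstance, ⟨LinearEquiv.refl _ _⟩⟩),
    mul_one]

/-- δ is preserved by flat local maps with `m_A B = m_B` and geometrically reduced residue extension. -/
theorem deltaInv_eq (hdim : ringKrullDim A = 1) [Module.Finite A (Nrm A)]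
    (hm : (maximalIdeal A).map (algebraMap A B) = maximalIdeal B)
    [Algebra.IsGeometricallyReduced (ResidueField A) (ResidueField B)] :
    Curv2.deltaInv B = Curv2.deltaInv A :=
  deltaInv_eq_of_fibre hdim hm fun M' _ _ _ hy => mem_map_of_pow_mem hm M' hy

end Local

end Groth.Agent.DeltaFlat
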