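import Mathlib.FieldTheory.IsAlgClosed.AlgebraicClosure
import Mathlib.RingTheory.AlgebraicIndependent.AlgebraicClosure
import Mathlib.RingTheory.AlgebraicIndependent.Adjoin
import Mathlib.RingTheory.AlgebraicIndependent.TranscendenceBasis
import Mathlib.RingTheory.Ideal.GoingDown
import Mathlib.RingTheory.Ideal.KrullsHeightTheorem
import Mathlib.RingTheory.KrullDimension.NonZeroDivisors
import Mathlib.RingTheory.Flat.FaithfullyFlat.Algebra

/-!
# Transcendence degree of a compositum, and dimension along faithfully flat local extensions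
-/

set_option autoImplicit false

universe u

open Cardinal

namespace Groth.Agent.DeltaFlat

/-- Transcendence degree does not grow under composita. -/
theorem trdeg_le_of_generated {K L K' M : Type u} [Field K] [Field L] [Field K'] [Field M]
    (i : K →+* L) (j : K →+* K') (a : L →+* M) (b : K' →+* M) (hc : a.comp i = b.comp j)
    (hgen : ∀ E : Subfield M, (∀ l, a l ∈ E) → (∀ z, b z ∈ E) → E = ⊤) :
    @Algebra.trdeg K' M _ _ b.toAlgebra ≤ @Algebra.trdeg K L _ _ i.toAlgebra := by
  algebraize [i, b]
  obtain ⟨ι, x, hx⟩ := exists_isTranscendenceBasis' (R := K) (A := L)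
  have := hx.isAlgebraic_field
  let F0 := IntermediateField.adjoin K (Set.range x)
  let E0 := IntermediateField.adjoin K' (Set.range (a ∘ x))
  have hF0 : ∀ f ∈ F0, a f ∈ E0 := fun f hf => by
    induction hf using IntermediateField.adjoin_induction with
    | mem f hf =>
      obtain ⟨t, rfl⟩ := hf
      exact IntermediateField.subset_adjoin _ _ ⟨t, rfl⟩
    | algebraMap c =>
      rw [RingHom.algebraMap_toAlgebra, show a (i c) = b (j c) from DFunLike.congr_fun hc c]
      exact E0.algebraMap_mem (j c)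
    | add f g _ _ h h' => rw [map_add]; exact add_mem h h'
    | inv f _ h => rw [map_inv₀]; exact inv_mem h
    | mul f g _ _ h h' => rw [map_mul]; exact mul_mem h h'
  let ψ : F0 →+* E0 := RingHom.codRestrict (a.comp (algebraMap F0 L)) E0.toSubfield fun f => hF0 f f.2
  let C := algebraicClosure E0 M
  have hC : C.toSubfield = ⊤ := hgen _ (fun l => by
      refine mem_algebraicClosure_iff.2 ?_
      exact (Algebra.IsAlgebraic.isAlgebraic (R := F0) l).ringHom_of_comp_eq ψ a ψ.injective rfl)
    (fun z => C.algebraMap_mem (⟨b z, E0.algebraMap_mem z⟩ : E0))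
  have : Algebra.IsAlgebraic E0 M := ⟨fun m => mem_algebraicClosure_iff.1
    (show m ∈ C.toSubfield by rw [hC]; trivial)⟩
  have : Algebra.IsAlgebraic (Algebra.adjoin K' (Set.range (a ∘ x))) M :=
    IntermediateField.isAlgebraic_adjoin_iff_top.1 this
  calc Algebra.trdeg K' M ≤ #(Set.range (a ∘ x)) := Algebra.IsAlgebraic.trdeg_le_cardinalMk K' _
    _ ≤ #ι := Cardinal.mk_range_le
    _ = Algebra.trdeg K L := hx.cardinalMk_eq_trdeg

/-- A compositum in which a transcendence basis stays independent. -/
theorem exists_compositum {K L K' : Type u} [Field K] [Field L] [Field K'] (i : K →+* L) (j : K →+* K') :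
    ∃ (M : Type u) (_ : Field M) (a : L →+* M) (b : K' →+* M), a.comp i = b.comp j ∧
      ∃ (ι : Type u) (x : ι → L), #ι = @Algebra.trdeg K L _ _ i.toAlgebra ∧
        @AlgebraicIndependent ι K' M (fun t => a (x t)) _ _ b.toAlgebra := by
  algebraize [i]
  obtain ⟨ι, x, hx⟩ := exists_isTranscendenceBasis' (R := K) (A := L)
  have := hx.isAlgebraic_field
  let M := AlgebraicClosure (FractionRing (MvPolynomial ι K'))
  let c : MvPolynomial ι K' →+* M :=
    (algebraMap (FractionRing (MvPolynomial ι K')) M).comp (algebraMap (MvPolynomial ι K') _)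
  have hcinj : Function.Injective c :=
    (algebraMap (FractionRing (MvPolynomial ι K')) M).injective.comp (IsFractionRing.injective _ _)
  let F0 := IntermediateField.adjoin K (Set.range x)
  let e := hx.1.aevalEquivField
  let g : MvPolynomial ι K →+* M := c.comp (MvPolynomial.map j)
  have hg : Function.Injective g := hcinj.comp (MvPolynomial.map_injective j j.injective)
  let φ : F0 →+* M := (IsFractionRing.lift hg : FractionRing (MvPolynomial ι K) →+* M).comp
    (e.symm : F0 →+* FractionRing (MvPolynomial ι K))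
  have hφ : ∀ p : MvPolynomial ι K, φ (e (algebraMap _ _ p)) = g p := fun p => by
    simp only [φ, RingHom.comp_apply, RingHom.coe_coe, AlgEquiv.symm_apply_apply]
    exact IsFractionRing.lift_algebraMap hg p
  algebraize [φ]
  let a : L →ₐ[F0] M := IsAlgClosed.lift
  let b : K' →+* M := c.comp MvPolynomial.C
  refine ⟨M, inferInstance, a.toRingHom, b, RingHom.ext fun z => ?_, ι, x, hx.cardinalMk_eq_trdeg, ?_⟩
  · have h1 : e (algebraMap _ _ (MvPolynomial.C z)) = algebraMap K F0 z := Subtype.ext
      ((hx.1.aevalEquivField_algebraMap_apply_coe _).trans (MvPolynomial.aeval_C _ _))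
    calc a (algebraMap F0 L (algebraMap K F0 z)) = φ (algebraMap K F0 z) := a.commutes _
      _ = g (MvPolynomial.C z) := by rw [← h1, hφ]
      _ = b (j z) := by simp [g, b]
  · have ha : ∀ t, a (x t) = c (MvPolynomial.X t) := fun t => by
      have h1 : e (algebraMap _ _ (MvPolynomial.X t)) = ⟨x t, IntermediateField.subset_adjoin _ _ ⟨t, rfl⟩⟩ :=
        Subtype.ext ((hx.1.aevalEquivField_algebraMap_apply_coe _).trans (MvPolynomial.aeval_X _ _))
      calc a (x t) = φ ⟨x t, IntermediateField.subset_adjoin _ _ ⟨t, rfl⟩⟩ :=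
            a.commutes (⟨x t, IntermediateField.subset_adjoin _ _ ⟨t, rfl⟩⟩ : F0)
        _ = g (MvPolynomial.X t) := by rw [← h1, hφ]
        _ = _ := by simp [g]
    letI := b.toAlgebra
    let cA : MvPolynomial ι K' →ₐ[K'] M := { c with commutes' := fun z => rfl }
    have : (fun t => a.toRingHom (x t)) = cA ∘ MvPolynomial.X := funext ha
    rw [this]
    exact (MvPolynomial.algebraicIndependent_X ι K').map' (f := cA) hcinj

/-- `dim A'/p' ≤ dim A/p` when the closed fibre is a point. -/
theorem ringKrullDim_quotient_le {A A' : Type u} [CommRing A] [CommRing A'] [IsLocalRing A] [IsLocalRing A']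
    [IsNoetherianRing A] [IsNoetherianRing A'] [Algebra A A'] [Module.FaithfullyFlat A A']
    (hfib : ∀ q : Ideal A', ∀ _ : q.IsPrime, q.comap (algebraMap A A') = IsLocalRing.maximalIdeal A →
      q = IsLocalRing.maximalIdeal A')
    (p : Ideal A) [p.IsPrime] (p' : Ideal A') [p'.IsPrime] [p'.LiesOver p] :
    ringKrullDim (A' ⧸ p') ≤ ringKrullDim (A ⧸ p) := by
  have hp : p = p'.comap (algebraMap A A') := (p'.over_def p)
  let B := A ⧸ p
  let B' := A' ⧸ p'
  have hB : IsLocalRing B := .of_surjective' (Ideal.Quotient.mk p) Ideal.Quotient.mk_surjective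
  have hB' : IsLocalRing B' := .of_surjective' (Ideal.Quotient.mk p') Ideal.Quotient.mk_surjective
  obtain ⟨q, hq⟩ := PrimeSpectrum.comap_surjective_of_faithfullyFlat (B := A') (IsLocalRing.closedPoint A)
  have hm : (IsLocalRing.maximalIdeal A').comap (algebraMap A A') = IsLocalRing.maximalIdeal A := by
    rw [← hfib q.asIdeal q.2 (congrArg PrimeSpectrum.asIdeal hq)]
    exact congrArg PrimeSpectrum.asIdeal hq
  have : IsLocalHom (Ideal.Quotient.mk p) := .of_surjective _ Ideal.Quotient.mk_surjective
  have : IsLocalHom (Ideal.Quotient.mk p') := .of_surjective _ Ideal.Quotient.mk_surjective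
  have hmem : ∀ y ∈ IsLocalRing.maximalIdeal A,
      algebraMap B B' (Ideal.Quotient.mk p y) ∈ IsLocalRing.maximalIdeal B' := fun y hy => by
    rw [← hm, Ideal.mem_comap, IsLocalRing.mem_maximalIdeal] at hy
    rw [IsLocalRing.mem_maximalIdeal]
    exact fun h => hy (isUnit_of_map_unit (Ideal.Quotient.mk p') _ h)
  have hmB : ∀ z ∈ IsLocalRing.maximalIdeal B, ∃ y ∈ IsLocalRing.maximalIdeal A, Ideal.Quotient.mk p y = z :=
    fun z hz => by
    obtain ⟨y, rfl⟩ := Ideal.Quotient.mk_surjective z
    exact ⟨y, fun h => hz (h.map _), rfl⟩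
  have hover : (IsLocalRing.maximalIdeal B').LiesOver (IsLocalRing.maximalIdeal B) :=
    ⟨(IsLocalRing.maximalIdeal.isMaximal B).eq_of_le
      (Ideal.comap_ne_top _ (IsLocalRing.maximalIdeal.isMaximal B').ne_top) fun z hz => by
        obtain ⟨y, hy, rfl⟩ := hmB z hz
        exact hmem y hy⟩
  have huniq : ∀ Q : Ideal B', Q.IsPrime → (IsLocalRing.maximalIdeal B).map (algebraMap B B') ≤ Q →
      Q.IsMaximal := by
    intro Q hQ hle
    have hQ' : Q.comap (Ideal.Quotient.mk p') = IsLocalRing.maximalIdeal A' := by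
      refine hfib _ inferInstance (((IsLocalRing.maximalIdeal.isMaximal A).eq_of_le
        (Ideal.IsPrime.ne_top inferInstance) fun y hy => ?_).symm)
      exact hle (Ideal.mem_map_of_mem (algebraMap B B')
        (show Ideal.Quotient.mk p y ∈ IsLocalRing.maximalIdeal B from
          fun h => hy (isUnit_of_map_unit (Ideal.Quotient.mk p) y h)))
    have : (Q.comap (Ideal.Quotient.mk p')).IsMaximal := hQ'.symm ▸ IsLocalRing.maximalIdeal.isMaximal A'
    have h := Ideal.map_eq_top_or_isMaximal_of_surjective (Ideal.Quotient.mk p') Ideal.Quotient.mk_surjective this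
    rw [Ideal.map_comap_of_surjective _ Ideal.Quotient.mk_surjective] at h
    exact h.resolve_left hQ.ne_top
  let J := (IsLocalRing.maximalIdeal B).map (algebraMap B B')
  have h0 : Ring.KrullDimLE 0 (B' ⧸ J) := Ring.KrullDimLE.mk₀ fun I hI => by
    have hmax := huniq (I.comap (Ideal.Quotient.mk J)) inferInstance
      (le_trans (le_of_eq Ideal.mk_ker.symm) (Ideal.ker_le_comap _))
    have h := Ideal.map_eq_top_or_isMaximal_of_surjective (Ideal.Quotient.mk J) Ideal.Quotient.mk_surjective hmax
    rw [Ideal.map_comap_of_surjective _ Ideal.Quotient.mk_surjective] at h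
    exact h.resolve_left hI.ne_top
  have hz : ((IsLocalRing.maximalIdeal B').map (Ideal.Quotient.mk J)).height = 0 := by
    have hne : (IsLocalRing.maximalIdeal B').map (Ideal.Quotient.mk J) ≠ ⊤ := fun h => by
      have h1 := congrArg (Ideal.comap (Ideal.Quotient.mk J)) h
      rw [Ideal.comap_map_of_surjective _ Ideal.Quotient.mk_surjective, Ideal.comap_top, ← RingHom.ker_eq_comap_bot,
        Ideal.mk_ker, sup_eq_left.2 (Ideal.map_le_iff_le_comap.2 (le_of_eq hover.over))] at h1
      exact (IsLocalRing.maximalIdeal.isMaximal B').ne_top h1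
    have h1 : ((((IsLocalRing.maximalIdeal B').map (Ideal.Quotient.mk J)).height : ℕ∞) : WithBot ℕ∞) ≤
        ((0 : ℕ∞) : WithBot ℕ∞) :=
      (Ideal.height_le_ringKrullDim_of_ne_top hne).trans ((Ring.krullDimLE_iff (n := 0)).1 h0)
    exact le_antisymm (WithBot.coe_le_coe.1 h1) bot_le
  rw [← IsLocalRing.maximalIdeal_height_eq_ringKrullDim (R := B'),
    ← IsLocalRing.maximalIdeal_height_eq_ringKrullDim (R := B)]
  refine WithBot.coe_le_coe.2 ((Ideal.height_le_height_add_of_liesOver (IsLocalRing.maximalIdeal B) _).trans ?_)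
  rw [hz, add_zero]

/-- Equality is attained by some prime over `p`. -/
theorem exists_ringKrullDim_quotient_eq {A A' : Type u} [CommRing A] [CommRing A'] [IsLocalRing A] [IsLocalRing A']
    [IsNoetherianRing A] [IsNoetherianRing A'] [Algebra A A'] [Module.FaithfullyFlat A A']
    (hfib : ∀ q : Ideal A', ∀ _ : q.IsPrime, q.comap (algebraMap A A') = IsLocalRing.maximalIdeal A →
      q = IsLocalRing.maximalIdeal A')
    (p : Ideal A) [p.IsPrime] :
    ∃ q : PrimeSpectrum A', q.asIdeal.comap (algebraMap A A') = p ∧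
      ringKrullDim (A' ⧸ q.asIdeal) = ringKrullDim (A ⧸ p) := by
  have : Nontrivial (A ⧸ p) := Ideal.Quotient.nontrivial_iff.2 (Ideal.IsPrime.ne_top inferInstance)
  have : IsLocalRing (A ⧸ p) := .of_surjective' (Ideal.Quotient.mk p) Ideal.Quotient.mk_surjective
  obtain ⟨n, hn⟩ : ∃ n : ℕ, ringKrullDim (A ⧸ p) = n := by
    rw [← IsLocalRing.maximalIdeal_height_eq_ringKrullDim]
    obtain ⟨n, hn⟩ := ENat.ne_top_iff_exists.1
      (Ideal.height_ne_top (I := IsLocalRing.maximalIdeal (A ⧸ p)) (Ideal.IsPrime.ne_top inferInstance))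
    exact ⟨n, by rw [← hn]; rfl⟩
  obtain ⟨l, hl⟩ := Order.le_krullDim_iff.1 (le_of_eq ((hn.symm).trans (ringKrullDim_quotient p)))
  let l' : LTSeries (PrimeSpectrum A) := l.map Subtype.val fun _ _ h => h
  obtain ⟨P, hP⟩ := PrimeSpectrum.comap_surjective_of_faithfullyFlat (B := A') l'.last
  have : P.asIdeal.LiesOver l'.last.asIdeal := ⟨(congrArg PrimeSpectrum.asIdeal hP).symm⟩
  obtain ⟨L, hLlen, -, hLmap⟩ := Ideal.exists_ltSeries_of_hasGoingDown l' P.asIdeal
  have hhead : PrimeSpectrum.comap (algebraMap A A') L.head = l'.head := by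
    have h := congrArg List.head? hLmap
    rw [List.head?_map] at h
    have h2 : ∀ {α : Type u} [Preorder α] (s : LTSeries α), s.toList.head? = some s.head := fun s => by
      rw [List.head?_eq_some_head s.toList_ne_nil]; exact congrArg some (RelSeries.head_toList s)
    rw [h2, h2, Option.map_some] at h
    exact Option.some.inj h
  have : L.head.asIdeal.LiesOver l'.head.asIdeal := ⟨(congrArg PrimeSpectrum.asIdeal hhead).symm⟩
  have hle : p ≤ l'.head.asIdeal := l.head.2
  obtain ⟨q, hq, hqp, hqo⟩ := Ideal.exists_ideal_le_liesOver_of_le (R := A) (q := l'.head.asIdeal) L.head.asIdeal hle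
  refine ⟨⟨q, hqp⟩, (Ideal.over_def q p).symm, le_antisymm (ringKrullDim_quotient_le hfib p q) ?_⟩
  have hz : ∀ i, L.toFun i ∈ PrimeSpectrum.zeroLocus (q : Set A') := fun i =>
    hq.trans (L.monotone (Fin.zero_le i) : L.head ≤ L.toFun i)
  rw [hn, ringKrullDim_quotient]
  exact Order.le_krullDim_iff.2 ⟨⟨L.length, fun i => ⟨L.toFun i, hz i⟩, fun i => L.step i⟩, hLlen.trans hl⟩

end Groth.Agent.DeltaFlat
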