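import Groth.Agent.DeltaFlat.Alg
import Mathlib.AlgebraicGeometry.ResidueField
import Mathlib.AlgebraicGeometry.Pullbacks
import Mathlib.AlgebraicGeometry.Morphisms.Preimmersion

/-!
# Residue fields of points of a base change along a morphism of affine schemes
-/

set_option autoImplicit false

universe u

open CategoryTheory CategoryTheory.Limits AlgebraicGeometry Cardinal

noncomputable section

namespace Groth.Agent.DeltaFlat

variable {A A' : Type u} [CommRing A] [CommRing A'] {X : Scheme.{u}} (f : X ⟶ Spec (CommRingCat.of A))
  (φ : A →+* A')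

local notation "Q" => Spec.map (CommRingCat.ofHom φ)

theorem fst_point (x' : ↥(pullback f Q)) :
    (Q).base ((pullback.snd f Q).base x') = f.base ((pullback.fst f Q).base x') := by
  rw [← Scheme.Hom.comp_apply, ← Scheme.Hom.comp_apply, pullback.condition]

/-- The map `κ(f (fst x')) → κ(snd x')`. -/
def baseRes (x' : ↥(pullback f Q)) :
    (Spec (CommRingCat.of A)).residueField (f.base ((pullback.fst f Q).base x')) ⟶
      (Spec (CommRingCat.of A')).residueField ((pullback.snd f Q).base x') :=
  ((Spec (CommRingCat.of A)).residueFieldCongr (fst_point f φ x')).inv ≫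
    (Q).residueFieldMap ((pullback.snd f Q).base x')

theorem baseRes_comm (x' : ↥(pullback f Q)) :
    f.residueFieldMap ((pullback.fst f Q).base x') ≫ (pullback.fst f Q).residueFieldMap x' =
      baseRes f φ x' ≫ (pullback.snd f Q).residueFieldMap x' := by
  apply Spec.map_injective
  rw [← cancel_mono ((Spec (CommRingCat.of A)).fromSpecResidueField _)]
  simp only [baseRes, Spec.map_comp, Category.assoc, Scheme.residueFieldCongr_inv,
    Scheme.residueFieldCongr_fromSpecResidueField, Scheme.Hom.SpecMap_residueFieldMap_fromSpecResidueField,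
    Scheme.Hom.SpecMap_residueFieldMap_fromSpecResidueField_assoc, pullback.condition]

/-- The residue field of a point of the base change is generated by those of its images. -/
theorem residueField_generated (x' : ↥(pullback f Q)) (E : Subfield ((pullback f Q).residueField x'))
    (h1 : ∀ l, ((pullback.fst f Q).residueFieldMap x').hom l ∈ E)
    (h2 : ∀ z, ((pullback.snd f Q).residueFieldMap x').hom z ∈ E) : E = ⊤ := by
  let P := pullback f Q
  let inc : CommRingCat.of E ⟶ P.residueField x' := CommRingCat.ofHom E.subtype
  let α : X.residueField ((pullback.fst f Q).base x') ⟶ CommRingCat.of E :=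
    CommRingCat.ofHom (((pullback.fst f Q).residueFieldMap x').hom.codRestrict E h1)
  let β : (Spec (CommRingCat.of A')).residueField ((pullback.snd f Q).base x') ⟶ CommRingCat.of E :=
    CommRingCat.ofHom (((pullback.snd f Q).residueFieldMap x').hom.codRestrict E h2)
  have hα : α ≫ inc = (pullback.fst f Q).residueFieldMap x' := rfl
  have hβ : β ≫ inc = (pullback.snd f Q).residueFieldMap x' := rfl
  let u := Spec.map α ≫ X.fromSpecResidueField _
  let v := Spec.map β ≫ (Spec (CommRingCat.of A')).fromSpecResidueField _
  have hu : Spec.map inc ≫ u = P.fromSpecResidueField x' ≫ pullback.fst f Q := by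
    simp only [u, ← Spec.map_comp_assoc, hα, Scheme.Hom.SpecMap_residueFieldMap_fromSpecResidueField]; rfl
  have hv : Spec.map inc ≫ v = P.fromSpecResidueField x' ≫ pullback.snd f Q := by
    simp only [v, ← Spec.map_comp_assoc, hβ, Scheme.Hom.SpecMap_residueFieldMap_fromSpecResidueField]; rfl
  have hinc : Function.Injective inc.hom := E.subtype.injective
  have huv : u ≫ f = v ≫ Q := by
    obtain ⟨a, ha⟩ : ∃ a, Spec.map a = u ≫ f := ⟨Spec.preimage _, Spec.map_preimage _⟩
    obtain ⟨b, hb⟩ : ∃ b, Spec.map b = v ≫ Q := ⟨Spec.preimage _, Spec.map_preimage _⟩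
    have e : a ≫ inc = b ≫ inc := by
      apply Spec.map_injective
      rw [Spec.map_comp, Spec.map_comp, ha, hb, reassoc_of% hu, reassoc_of% hv, pullback.condition]
    rw [← ha, ← hb]
    exact congrArg Spec.map (CommRingCat.hom_ext (RingHom.ext fun r =>
      hinc (DFunLike.congr_fun (congrArg CommRingCat.Hom.hom e) r)))
  let w := pullback.lift u v huv
  have hw : Spec.map inc ≫ w = P.fromSpecResidueField x' := by
    apply pullback.hom_ext
    · rw [Category.assoc, pullback.lift_fst, hu]
    · rw [Category.assoc, pullback.lift_snd, hv]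
  obtain ⟨ψ, hψ⟩ : ∃ ψ : P.residueField x' ⟶ CommRingCat.of E, Spec.map ψ ≫ P.fromSpecResidueField x' = w := by
    have hx : w (IsLocalRing.closedPoint E) = x' := by
      have hpt : Spec.map inc (IsLocalRing.closedPoint _) = IsLocalRing.closedPoint E := Subsingleton.elim _ _
      rw [← hpt, ← Scheme.Hom.comp_apply, hw]
      exact Scheme.fromSpecResidueField_apply _ _
    refine ⟨(P.residueFieldCongr hx).inv ≫ P.descResidueField (Scheme.stalkClosedPointTo w), ?_⟩
    rw [Spec.map_comp, Category.assoc, Scheme.residueFieldCongr_inv,
      Scheme.residueFieldCongr_fromSpecResidueField]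
    exact Scheme.descResidueField_stalkClosedPointTo_fromSpecResidueField _ _ w
  have hid : ψ ≫ inc = 𝟙 _ := by
    apply Spec.map_injective
    rw [← cancel_mono (P.fromSpecResidueField x'), Spec.map_comp, Category.assoc, hψ, hw, Spec.map_id,
      Category.id_comp]
  refine eq_top_iff.2 fun m _ => ?_
  have := DFunLike.congr_fun (congrArg CommRingCat.Hom.hom hid) m
  have hm : ((ψ.hom m : E) : (pullback f Q).residueField x') = m := this
  rw [← hm]
  exact SetLike.coe_mem _

/-- The transcendence degree of residue fields does not grow under base change. -/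
theorem trdeg_residueField_le (x' : ↥(pullback f Q)) :
    @Algebra.trdeg ↑((Spec (CommRingCat.of A')).residueField ((pullback.snd f Q).base x'))
        ↑((pullback f Q).residueField x') _ _ ((pullback.snd f Q).residueFieldMap x').hom.toAlgebra ≤
      @Algebra.trdeg ↑((Spec (CommRingCat.of A)).residueField (f.base ((pullback.fst f Q).base x')))
        ↑(X.residueField ((pullback.fst f Q).base x')) _ _
        (f.residueFieldMap ((pullback.fst f Q).base x')).hom.toAlgebra :=
  trdeg_le_of_generated _ (baseRes f φ x').hom _ _ (congrArg CommRingCat.Hom.hom (baseRes_comm f φ x'))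
    (residueField_generated f φ x')

/-- Elements independent in an overfield of the residue field are independent in the residue field. -/
theorem le_trdeg_of_hom (x' : ↥(pullback f Q)) {M : Type u} [Field M]
    (θ : (pullback f Q).residueField x' ⟶ CommRingCat.of M)
    (x : X) (hx : (pullback.fst f Q).base x' = x) (s' : ↥(Spec (CommRingCat.of A')))
    (hs : (pullback.snd f Q).base x' = s')
    (a : X.residueField x ⟶ CommRingCat.of M) (b : (Spec (CommRingCat.of A')).residueField s' ⟶ CommRingCat.of M)
    (ha : Spec.map θ ≫ (pullback f Q).fromSpecResidueField x' ≫ pullback.fst f Q =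
      Spec.map a ≫ X.fromSpecResidueField x)
    (hb : Spec.map θ ≫ (pullback f Q).fromSpecResidueField x' ≫ pullback.snd f Q =
      Spec.map b ≫ (Spec (CommRingCat.of A')).fromSpecResidueField s')
    {ι : Type u} (B : ι → X.residueField x)
    (hB : @AlgebraicIndependent ι _ M (fun t => a.hom (B t)) _ _ b.hom.toAlgebra) :
    #ι ≤ @Algebra.trdeg ↑((Spec (CommRingCat.of A')).residueField ((pullback.snd f Q).base x'))
        ↑((pullback f Q).residueField x') _ _ ((pullback.snd f Q).residueFieldMap x').hom.toAlgebra := by
  subst hx hs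
  have ea : (pullback.fst f Q).residueFieldMap x' ≫ θ = a := by
    apply Spec.map_injective
    rw [← cancel_mono (X.fromSpecResidueField _), ← ha, Spec.map_comp, Category.assoc,
      Scheme.Hom.SpecMap_residueFieldMap_fromSpecResidueField]
  have eb : (pullback.snd f Q).residueFieldMap x' ≫ θ = b := by
    apply Spec.map_injective
    rw [← cancel_mono ((Spec (CommRingCat.of A')).fromSpecResidueField _), ← hb, Spec.map_comp, Category.assoc,
      Scheme.Hom.SpecMap_residueFieldMap_fromSpecResidueField]
  subst ea eb
  letI := ((pullback.snd f Q).residueFieldMap x').hom.toAlgebra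
  letI : Algebra ↑((Spec (CommRingCat.of A')).residueField ((pullback.snd f Q).base x')) M :=
    ((pullback.snd f Q).residueFieldMap x' ≫ θ).hom.toAlgebra
  let θ' : ↑((pullback f Q).residueField x') →ₐ[↑((Spec (CommRingCat.of A')).residueField ((pullback.snd f Q).base x'))] M :=
    { θ.hom with commutes' := fun r => rfl }
  exact (AlgebraicIndependent.of_comp θ' (x := fun t => ((pullback.fst f Q).residueFieldMap x').hom (B t))
    hB).cardinalMk_le_trdeg

/-- A point over prescribed points with the same transcendence degree. -/
theorem exists_point (x : X) (s' : ↥(Spec (CommRingCat.of A'))) (h : (Q).base s' = f.base x) :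
    ∃ x' : ↥(pullback f Q), (pullback.fst f Q).base x' = x ∧ (pullback.snd f Q).base x' = s' ∧
      @Algebra.trdeg ↑((Spec (CommRingCat.of A)).residueField (f.base x)) ↑(X.residueField x) _ _
          (f.residueFieldMap x).hom.toAlgebra ≤
        @Algebra.trdeg ↑((Spec (CommRingCat.of A')).residueField ((pullback.snd f Q).base x'))
          ↑((pullback f Q).residueField x') _ _ ((pullback.snd f Q).residueFieldMap x').hom.toAlgebra := by
  let j := ((Spec (CommRingCat.of A)).residueFieldCongr h).inv ≫ (Q).residueFieldMap s'
  obtain ⟨M, _, a, b, hab, ι, B, hι, hB⟩ := exists_compositum (f.residueFieldMap x).hom j.hom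
  let u := Spec.map (CommRingCat.ofHom a) ≫ X.fromSpecResidueField x
  let v := Spec.map (CommRingCat.ofHom b) ≫ (Spec (CommRingCat.of A')).fromSpecResidueField s'
  have huv : u ≫ f = v ≫ Q := by
    have e : f.residueFieldMap x ≫ CommRingCat.ofHom a = j ≫ CommRingCat.ofHom b := CommRingCat.hom_ext hab
    simp only [u, v, Category.assoc, ← Scheme.Hom.SpecMap_residueFieldMap_fromSpecResidueField]
    rw [← Spec.map_comp_assoc]
    refine Eq.trans (congrArg (fun t => Spec.map t ≫ _) e) ?_
    simp only [j, Spec.map_comp, Category.assoc, Scheme.residueFieldCongr_inv,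
      Scheme.residueFieldCongr_fromSpecResidueField]
    rfl
  obtain ⟨w, hwu, hwv⟩ : ∃ w : Spec (CommRingCat.of M) ⟶ pullback f Q,
      w ≫ pullback.fst f Q = u ∧ w ≫ pullback.snd f Q = v :=
    ⟨pullback.lift u v huv, pullback.lift_fst _ _ _, pullback.lift_snd _ _ _⟩
  have hx : (pullback.fst f Q).base (w (IsLocalRing.closedPoint M)) = x :=
    ((Scheme.Hom.comp_apply w (pullback.fst f Q) _).symm.trans (congrArg (fun t : _ ⟶ X => t (IsLocalRing.closedPoint M)) hwu)).trans
      ((Scheme.Hom.comp_apply _ _ _).trans (Scheme.fromSpecResidueField_apply _ _))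
  have hs : (pullback.snd f Q).base (w (IsLocalRing.closedPoint M)) = s' :=
    ((Scheme.Hom.comp_apply w (pullback.snd f Q) _).symm.trans
      (congrArg (fun t : _ ⟶ Spec (CommRingCat.of A') => t (IsLocalRing.closedPoint M)) hwv)).trans
      ((Scheme.Hom.comp_apply _ _ _).trans (Scheme.fromSpecResidueField_apply _ _))
  refine ⟨w (IsLocalRing.closedPoint M), hx, hs, ?_⟩
  refine (le_of_eq hι.symm).trans (le_trdeg_of_hom f φ _ (Scheme.descResidueField (Scheme.stalkClosedPointTo w))
    x hx s' hs (CommRingCat.ofHom a) (CommRingCat.ofHom b) ?_ ?_ B hB)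
  · exact ((Category.assoc _ _ _).symm.trans
      (congrArg (· ≫ pullback.fst f Q) (Scheme.descResidueField_stalkClosedPointTo_fromSpecResidueField M _ w))).trans hwu
  · exact ((Category.assoc _ _ _).symm.trans
      (congrArg (· ≫ pullback.snd f Q) (Scheme.descResidueField_stalkClosedPointTo_fromSpecResidueField M _ w))).trans hwv

end Groth.Agent.DeltaFlat
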